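/-
Coset enumeration certificate: the assembled result.
-/
import Cfsg.Agent.Lib.Spor.TC.Steps
import Cfsg.Agent.Lib.Spor.Held.Rels
import Cfsg.Agent.Lib.Spor.Held.CG.Part0
import Cfsg.Agent.Lib.Spor.Held.CG.Part1
import Cfsg.Agent.Lib.Spor.Held.CG.Part2
import Cfsg.Agent.Lib.Spor.Held.CG.Part3
import Cfsg.Agent.Lib.Spor.Held.CG.Part4
import Cfsg.Agent.Lib.Spor.Held.CG.Part5
import Cfsg.Agent.Lib.Spor.Held.CG.Part6
import Cfsg.Agent.Lib.Spor.Held.CG.Part7
import Cfsg.Agent.Lib.Spor.Held.CG.Part8
import Cfsg.Agent.Lib.Spor.Held.CG.Part9
import Cfsg.Agent.Lib.Spor.Held.CG.Part10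
import Cfsg.Agent.Lib.Spor.Held.CG.Part11
import Cfsg.Agent.Lib.Spor.Held.CG.Part12
import Cfsg.Agent.Lib.Spor.Held.CG.Part13
import Cfsg.Agent.Lib.Spor.Held.CG.Part14
import Cfsg.Agent.Lib.Spor.Held.CG.Part15
import Cfsg.Agent.Lib.Spor.Held.CG.Part16
import Cfsg.Agent.Lib.Spor.Held.CG.Part17
import Cfsg.Agent.Lib.Spor.Held.CG.Part18
import Cfsg.Agent.Lib.Spor.Held.CG.Part19
import Cfsg.Agent.Lib.Spor.Held.CG.Part20
import Cfsg.Agent.Lib.Spor.Held.CG.Part21
import Cfsg.Agent.Lib.Spor.Held.CG.Part22
import Cfsg.Agent.Lib.Spor.Held.CG.Part23
import Cfsg.Agent.Lib.Spor.Held.CG.Part24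
import Cfsg.Agent.Lib.Spor.Held.CG.Part25
import Cfsg.Agent.Lib.Spor.Held.CG.Part26
import Cfsg.Agent.Lib.Spor.Held.CG.Part27
import Cfsg.Agent.Lib.Spor.Held.CG.Part28
import Cfsg.Agent.Lib.Spor.Held.CG.Part29
import Cfsg.Agent.Lib.Spor.Held.CG.Part30
import Cfsg.Agent.Lib.Spor.Held.CG.Part31
import Cfsg.Agent.Lib.Spor.Held.CG.Part32
import Cfsg.Agent.Lib.Spor.Held.CG.Part33

namespace CfsgLib.Spor.Held.CG

open CfsgLib.Spor.TC

theorem steps_ok : cert.StepsOK 0 177410 :=
  ((((((((((((((((((((((((((((((((((((((((((((((((((((((((((((((steps0.append _ steps2996).append _ steps5955).append _ steps8974).append _ steps11957).append _ steps14959).append _ steps17886).append _ steps20836).append _ steps23775).append _ steps26762).append _ steps29662).append _ steps32603).append _ steps35521).append _ steps38496).append _ steps41487).append _ steps44457).append _ steps47413).append _ steps50366).append _ steps53321).append _ steps56245).append _ steps59170).append _ steps62090).append _ steps65009).append _ steps67948).append _ steps70817).append _ steps73690).append _ steps76547).append _ steps79413).append _ steps82310).append _ steps85113).append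 _ steps87991).append _ steps90823).append _ steps93696).append _ steps96535).append _ steps99372).append _ steps102180).append _ steps104995).append _ steps107783).append _ steps110556).append _ steps113349).append _ steps116142).append _ steps118925).append _ steps121691).append _ steps124431).append _ steps127209).append _ steps129956).append _ steps132725).append _ steps135472).append _ steps138235).append _ steps140956).append _ steps143687).append _ steps146395).append _ steps149103).append _ steps151847).append _ steps154579).append _ steps157291).append _ steps159998).append _ steps162735).append _ steps165454).append _ steps168163).append _ steps170885).append _ steps173586).append _ steps176242)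

theorem rows_ok : cert.RowsOK 177410 49980 0 49980 :=
  ((((((((((((((((((((((((((((((((((((rows0.append _ rows1380).append _ rows2760).append _ rows4140).append _ rows5520).append _ rows6900).append _ rows8280).append _ rows9660).append _ rows11040).append _ rows12420).append _ rows13800).append _ rows15180).append _ rows16560).append _ rows17940).append _ rows19320).append _ rows20700).append _ rows22080).append _ rows23460).append _ rows24840).append _ rows26220).append _ rows27600).append _ rows28980).append _ rows30360).append _ rows31740).append _ rows33120).append _ rows34500).append _ rows35880).append _ rows37260).append _ rows38640).append _ rows40020).append _ rows41400).append _ rows42780).append _ rows44160).append _ rows45540).append _ rows46920).append _ rows48300).append _ rows49680)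

theorem row_zero : cert.rowNode 0 = 0 := by decide +kernel

/-- The certificate, for the relators as powers of words. -/
noncomputable def cosetCert : CosetCert 7 relsZ [0, 2, 3, 4, 5, 6] 49980 :=
  ⟨cert, 177410, steps_ok, rows_ok, row_zero, by decide, rfl, by decide +kernel, by decide +kernel⟩

end CfsgLib.Spor.Held.CG
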